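import Cfsg.Agent.H215.J7.Iface
import Cfsg.Agent.H215.Act
import Cfsg.Agent.H264.CD
import Cfsg.Agent.H39.FTMain
import Cfsg.Agent.H456.J7.FF
import Cfsg.Agent.H250.J7.T7b

/-!
# S3068, T7d: a central involution modulo `O_p(G)` with `C_V(t) ≤ C_V(A)` when `C_G(V)S ≠ G`
-/

set_option autoImplicit false
set_option linter.unusedSectionVars false
set_option linter.unusedVariables false

namespace Cfsg.Agent.H271.J7.ExistsT

open Subgroup Cfsg Cfsg.Agent.H215.J7 Cfsg.Agent.H215.Act Cfsg.Agent.H263.FF.Basic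
open scoped commutatorElement Pointwise

/-- `|π(Y)| |Y ∩ ker π| = |Y|` -/
theorem card_map_mul {G X : Type*} [Group G] [Group X] [Finite G] (π : G →* X) (Y : Subgroup G) :
    Nat.card (Y.map π) * Nat.card (Y ⊓ π.ker : Subgroup G) = Nat.card Y := by
  have h1 := Subgroup.card_eq_card_quotient_mul_card_subgroup (π.comp Y.subtype).ker
  have h2 : Nat.card (Y ⧸ (π.comp Y.subtype).ker) = Nat.card (Y.map π) := by
    rw [Nat.card_congr (QuotientGroup.quotientKerEquivRange (π.comp Y.subtype)).toEquiv]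
    rw [MonoidHom.range_comp, Subgroup.range_subtype]
  have h3 : Nat.card (π.comp Y.subtype).ker = Nat.card (Y ⊓ π.ker : Subgroup G) := by
    refine Nat.card_congr ⟨fun x => ⟨x.1.1, x.1.2, x.2⟩, fun x => ⟨⟨x.1, x.2.1⟩, x.2.2⟩, fun _ => rfl, fun _ => rfl⟩
  rw [← h2, ← h3, h1]

section basic

variable {G : Type*} [Group G] {p : ℕ} {Q : Subgroup G}

theorem ZZ_normal (hQ : Q.Normal) : (ZZ Q).Normal := by
  constructor
  rintro x ⟨hx, hx'⟩ g
  refine ⟨hQ.conj_mem x hx g, ?_⟩
  have hn : (centralizer (Q : Set G)).Normal := inferInstance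
  exact hn.conj_mem x hx' g

theorem VV_normal (hQ : Q.Normal) : (VV p Q).Normal := by
  constructor
  rintro x ⟨hx, hx'⟩ g
  refine ⟨(ZZ_normal hQ).conj_mem x hx g, ?_⟩
  rw [conj_pow, hx', mul_one, mul_inv_cancel]

theorem VV_le_ZZ : VV p Q ≤ ZZ Q := fun _ h => h.1

theorem VV_le : VV p Q ≤ Q := fun _ h => h.1.1

theorem ZZ_Q {q z : G} (hq : q ∈ Q) (hz : z ∈ ZZ Q) : q * z = z * q :=
  mem_centralizer_iff.1 hz.2 q hq

theorem VV_comm : ∀ a ∈ VV p Q, ∀ b ∈ VV p Q, a * b = b * a := fun _ ha _ hb =>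
  ZZ_Q (VV_le ha) (VV_le_ZZ hb)

theorem Q_le_cent : Q ≤ centralizer (VV p Q : Set G) := by
  intro q hq
  rw [mem_centralizer_iff]
  exact fun v hv => (ZZ_Q hq (VV_le_ZZ hv)).symm

end basic

variable {G : Type*} [Group G] [Finite G] {p : ℕ} [hp : Fact p.Prime]

theorem Qn : (pCore p G).Normal := Cfsg.Agent.Lib.Cores.pCore_normal p

theorem QS {S : Sylow p G} : pCore p G ≤ S := Cfsg.Agent.Lib.Cores.pCore_le_sylow S

theorem hInv : Inv (MonoidHom.id G) (VV p (pCore p G)) :=
  ⟨VV_comm, fun g v hv => (VV_normal Qn).conj_mem v hv g⟩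

/-- the module -/
abbrev W (p : ℕ) [Fact p.Prime] (G : Type*) [Group G] [Finite G] : Type _ := Md (MonoidHom.id G) (VV p (pCore p G)) hInv

/-- the group acting -/
abbrev Xg (p : ℕ) [Fact p.Prime] (G : Type*) [Group G] [Finite G] : Type _ := G ⧸ kerF G (W p G)

/-- the projection -/
abbrev pp (p : ℕ) [Fact p.Prime] (G : Type*) [Group G] [Finite G] : G →* Xg p G := pr G (W p G)

theorem fx_iff {Y : Subgroup G} {v : W p G} :
    v ∈ fx (W p G) Y ↔ v.val ∈ VV p (pCore p G) ⊓ Subgroup.centralizer (Y : Set G) := by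
  rw [mem_fx, Subgroup.mem_inf, Subgroup.mem_centralizer_iff]
  constructor
  · intro h
    exact ⟨v.val_mem, fun y hy => (Md.smul_eq_iff y v).1 (h y hy)⟩
  · intro h y hy
    exact (Md.smul_eq_iff y v).2 (h.2 y hy)

theorem card_fx (Y : Subgroup G) : Nat.card (fx (W p G) Y) =
    Nat.card (VV p (pCore p G) ⊓ Subgroup.centralizer (Y : Set G) : Subgroup G) :=
  Nat.card_congr ⟨fun v => ⟨v.1.val, fx_iff.1 v.2⟩, fun v => ⟨Md.mk _ hInv (Subgroup.mem_inf.1 v.2).1, fx_iff.2 v.2⟩,
    fun _ => rfl, fun _ => rfl⟩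

theorem card_W : Nat.card (W p G) = Nat.card (VV p (pCore p G)) := rfl

theorem ker_pp : (pp p G).ker = Subgroup.centralizer (VV p (pCore p G) : Set G) := by
  ext g
  rw [MonoidHom.mem_ker, pr_eq_one, Subgroup.mem_centralizer_iff]
  constructor
  · intro h v hv
    exact ((Md.smul_eq_iff g (Md.mk _ hInv hv)).1 (h _)).symm
  · intro h v
    exact (Md.smul_eq_iff g v).2 (h _ v.val_mem).symm

theorem W_pow (v : W p G) : p • v = 0 := by
  apply Md.val_inj
  rw [Md.val_nsmul]
  exact v.val_mem.2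

theorem mm_map (Y : Subgroup G) :
    mm (W p G) (Y.map (pp p G)) * Nat.card (Y ⊓ Subgroup.centralizer (VV p (pCore p G) : Set G) : Subgroup G) =
    Nat.card Y * Nat.card (VV p (pCore p G) ⊓ Subgroup.centralizer (Y : Set G) : Subgroup G) := by
  rw [mm, fx_map, card_fx, ← card_map_mul (pp p G) Y, ker_pp]
  ring

/-- the offender inequality for the abelian subgroups of largest order -/
theorem off {P A V₀ : Subgroup G} (hAP : A ≤ P) (hA : Ab A) (hm : ∀ B ≤ P, Ab B → Nat.card B ≤ Nat.card A)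
    (hV : Ab V₀) (hVP : V₀ ≤ P) :
    Nat.card (A ⊓ centralizer (V₀ : Set G) : Subgroup G) * Nat.card V₀ ≤
      Nat.card A * Nat.card (V₀ ⊓ Subgroup.centralizer (A : Set G) : Subgroup G) := by
  set Y := A ⊓ centralizer (V₀ : Set G) with hY
  have h1 := Cfsg.Agent.H264.CD.card_mul_card_le Y V₀
  have hab : Ab (Y ⊔ V₀) := by
    have h2 : Y ⊔ V₀ ≤ Subgroup.centralizer ((Y ⊔ V₀ : Subgroup G) : Set G) := by
      have hYY : Y ≤ Subgroup.centralizer (Y : Set G) := fun y hy => by
        rw [Subgroup.mem_centralizer_iff]; exact fun z hz => hA z hz.1 y hy.1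
      have hCC : V₀ ≤ Subgroup.centralizer (V₀ : Set G) := fun y hy => by
        rw [Subgroup.mem_centralizer_iff]; exact fun z hz => hV z hz y hy
      have hYV : Y ≤ Subgroup.centralizer (V₀ : Set G) := inf_le_right
      rw [Cfsg.Agent.H264.CD.centralizer_sup]
      exact sup_le (le_inf hYY hYV) (le_inf (Subgroup.le_centralizer_iff.1 hYV) hCC)
    intro a ha b hb
    exact (Subgroup.mem_centralizer_iff.1 (h2 hb) a ha)
  have h3 := hm _ (sup_le (inf_le_left.trans hAP) hVP) hab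
  have h4 : Y ⊓ V₀ ≤ V₀ ⊓ Subgroup.centralizer (A : Set G) := by
    rintro x ⟨hx, hx'⟩
    refine Subgroup.mem_inf.2 ⟨hx', ?_⟩
    rw [Subgroup.mem_centralizer_iff]
    exact fun a ha => hA a ha x hx.1
  exact h1.trans (Nat.mul_le_mul h3 (Subgroup.card_le_of_le h4))

/-- a normal subgroup covers `G/S` or meets `S` in `O_p(G)` -/
theorem sup_or_inf {S : Sylow p G} {M : Subgroup G} (c : Cfg p (S : Subgroup G) M) (N : Subgroup G) (hN : N.Normal) :
    N ⊔ S = ⊤ ∨ (S : Subgroup G) ⊓ N ≤ pCore p G := by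
  by_cases h : N ⊔ S = ⊤
  · exact Or.inl h
  right
  have hNM : N ≤ M := le_sup_left.trans (c.max _ le_sup_right h)
  have h1 := Cfsg.Agent.H39.sylow_le_normalizer_inf S N
  have h2 : Subgroup.normalizer (((S : Subgroup G) ⊓ N : Subgroup G) : Set G) = ⊤ := by
    by_contra h3
    have h4 := c.max _ h1 h3
    apply c.ne
    rw [eq_top_iff]
    intro x _
    obtain ⟨n, hn, l, hl, rfl⟩ := Cfsg.Agent.H39.exists_mul_normalizer S N x
    exact mul_mem (h4 hn) (hNM hl)
  exact Cfsg.Agent.Lib.Cores.le_pCore (Subgroup.normalizer_eq_top_iff.1 h2) (S.isPGroup'.to_le inf_le_left)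

theorem coatom_conj {X : Type*} [Group X] {M : Subgroup X} (hM : IsCoatom M) (g : X) : IsCoatom (cj g M) := by
  constructor
  · intro e
    apply hM.1
    rw [← cj_inv_cj g M, e, cj_top]
  · intro K hK
    have h1 : M < cj g⁻¹ K := by
      rw [← cj_inv_cj g M]
      exact lt_of_le_of_ne (cj_mono _ hK.le) fun e => hK.ne (cj_inj e)
    have h2 := hM.2 _ h1
    rw [← cj_cj_inv g K, h2, cj_top]

theorem coe_smul {X : Type*} [Group X] (g : X) (T : Sylow p X) : ((g • T : Sylow p X) : Subgroup X) = cj g (T : Subgroup X) := by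
  ext x
  rw [mem_cj, Sylow.coe_subgroup_smul, Subgroup.mem_pointwise_smul_iff_inv_smul_mem]
  simp [MulAut.smul_def]

section cfg

variable {S : Sylow p G} {M : Subgroup G} (c : Cfg p (S : Subgroup G) M)
  (hSQ : ¬ (S : Subgroup G) ≤ pCore p G)
  (hN : centralizer (VV p (pCore p G) : Set G) ⊔ (S : Subgroup G) ≠ ⊤)

/-- the Sylow subgroup of the quotient -/
noncomputable def TT (S : Sylow p G) : Sylow p (Xg p G) := S.mapSurjective (f := pp p G) pr_surj

theorem coe_TT : (TT S : Subgroup (Xg p G)) = (S : Subgroup G).map (pp p G) := rfl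

include c hN

theorem CM : Subgroup.centralizer (VV p (pCore p G) : Set G) ≤ M := le_sup_left.trans (c.max _ le_sup_right hN)

theorem CS_inf : (S : Subgroup G) ⊓ Subgroup.centralizer (VV p (pCore p G) : Set G) ≤ pCore p G := by
  have _ := VV_normal (p := p) (Qn (p := p) (G := G))
  exact (sup_or_inf c _ inferInstance).resolve_left hN

theorem comap_M : (M.map (pp p G)).comap (pp p G) = M := by
  rw [Subgroup.comap_map_eq, ker_pp]
  exact sup_eq_left.2 (CM c hN)

theorem M_ne : M.map (pp p G) ≠ ⊤ := by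
  intro h
  apply c.ne
  rw [← comap_M c hN, h, Subgroup.comap_top]

theorem SM : (S : Subgroup G) ≤ M := le_sup_right.trans (c.max _ le_sup_right hN)

omit hN in
theorem le_of_TT {H : Subgroup (Xg p G)} (h : (TT S : Subgroup (Xg p G)) ≤ H) : H ≤ M.map (pp p G) ∨ H = ⊤ := by
  by_cases h1 : H.comap (pp p G) = ⊤
  · right
    rw [eq_top_iff]
    intro x _
    obtain ⟨x, rfl⟩ := pr_surj x
    have : x ∈ H.comap (pp p G) := by rw [h1]; trivial
    exact this
  · left
    have h2 : (S : Subgroup G) ≤ H.comap (pp p G) := by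
      rw [← Subgroup.map_le_iff_le_comap]; exact h
    have h3 := c.max _ h2 h1
    intro x hx
    obtain ⟨x, rfl⟩ := pr_surj x
    exact ⟨x, h3 hx, rfl⟩

theorem coatom_M : IsCoatom (M.map (pp p G)) := by
  refine ⟨M_ne c hN, fun K hK => ?_⟩
  refine (le_of_TT c ?_).resolve_left fun h => hK.not_ge h
  exact (Subgroup.map_mono (SM c hN)).trans hK.le

include hSQ

theorem TT_not_normal : ¬ (TT S : Subgroup (Xg p G)).Normal := by
  intro h
  have h1 : ((TT S : Subgroup (Xg p G)).comap (pp p G)).Normal := h.comap _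
  rw [coe_TT, Subgroup.comap_map_eq, ker_pp] at h1
  rcases sup_or_inf c _ h1 with h2 | h2
  · apply hN
    rw [← h2]
    apply le_antisymm
    · exact sup_le (le_sup_right.trans le_sup_left) le_sup_right
    · exact sup_le (sup_le le_sup_right le_sup_left) le_sup_right
  · exact hSQ ((le_inf le_rfl le_sup_left).trans h2)

theorem pmin : IsPMinimal p (Xg p G) := by
  intro T'
  obtain ⟨x, hx⟩ := MulAction.exists_smul_eq (Xg p G) (TT S) T'
  have hT' : (T' : Subgroup (Xg p G)) = cj x (TT S : Subgroup (Xg p G)) := by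
    rw [← hx, coe_smul]
  constructor
  · intro h
    apply TT_not_normal c hSQ hN
    have h1 : (TT S : Subgroup (Xg p G)) = cj x⁻¹ (T' : Subgroup (Xg p G)) := by rw [hT', cj_inv_cj]
    have h2 : x⁻¹ ∈ Subgroup.normalizer ((T' : Subgroup (Xg p G)) : Set (Xg p G)) := by
      rw [Subgroup.normalizer_eq_top_iff.2 h]; trivial
    rw [h1, cj_eq_iff_mem_normalizer.2 h2]
    exact h
  · refine ⟨cj x (M.map (pp p G)), ⟨coatom_conj (coatom_M c hN) x, ?_⟩, ?_⟩
    · rw [hT']
      exact cj_mono x (Subgroup.map_mono (SM c hN))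
    · rintro N ⟨hN', hTN⟩
      have h1 := coatom_conj hN' x⁻¹
      have h2 : (TT S : Subgroup (Xg p G)) ≤ cj x⁻¹ N := by
        have := cj_mono x⁻¹ hTN
        rwa [hT', cj_inv_cj] at this
      have h3 := (le_of_TT c h2).resolve_right h1.1
      have h4 : cj x⁻¹ N = M.map (pp p G) := by
        by_contra hne
        exact M_ne c hN (h1.2 _ (lt_of_le_of_ne h3 hne))
      rw [← h4, cj_cj_inv]

omit hSQ in
theorem core (N : Subgroup (Xg p G)) (hNn : N.Normal) (hNp : IsPGroup p N) : N = ⊥ := by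
  have h1 : (N.comap (pp p G)).Normal := hNn.comap _
  have hNT : N ≤ (TT S : Subgroup (Xg p G)) :=
    (Cfsg.Agent.Lib.Cores.le_pCore hNn hNp).trans (Cfsg.Agent.Lib.Cores.pCore_le_sylow (TT S))
  rcases sup_or_inf c _ h1 with h2 | h2
  · exfalso
    apply hN
    have h3 : N.comap (pp p G) ≤ Subgroup.centralizer (VV p (pCore p G) : Set G) ⊔ S := by
      have h4 := Subgroup.comap_mono (f := pp p G) hNT
      rw [coe_TT, Subgroup.comap_map_eq, ker_pp, sup_comm] at h4
      exact h4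
    rw [eq_top_iff, ← h2]
    exact sup_le h3 le_sup_right
  · rw [eq_bot_iff]
    intro n hn
    obtain ⟨s, hs, rfl⟩ := hNT hn
    rw [Subgroup.mem_bot]
    have h3 : s ∈ (pp p G).ker := by
      rw [ker_pp]; exact Q_le_cent (h2 ⟨hs, hn⟩)
    exact h3

end cfg

/-- T7d with the Hall-Higman part as a hypothesis -/
theorem t7d_of (hp7 : 7 ≤ p) (S : Sylow p G) {M : Subgroup G} (c : Cfg p (S : Subgroup G) M)
    {A : Subgroup G} (hAS : A ≤ S) (hAc : Ab A)
    (hAm : ∀ B ≤ (S : Subgroup G), Ab B → Nat.card B ≤ Nat.card A) (hAQ : ¬ A ≤ pCore p G)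
    (hquad : ∀ z ∈ ZZ (pCore p G), ∀ a ∈ A, ∀ b ∈ A, ⁅a, ⁅b, z⁆⁆ = 1)
    (hN : centralizer (VV p (pCore p G) : Set G) ⊔ (S : Subgroup G) ≠ ⊤)
    (hNA : ¬ p ∣ (pCore p G).relIndex (centralizer (VV p (pCore p G) : Set G)) →
      ⁅centralizer (VV p (pCore p G) : Set G), A⁆ ≤ pCore p G) :
    ∃ t : G, t * t ∈ pCore p G ∧ (∀ a ∈ A, ⁅t, a⁆ ∈ pCore p G) ∧
      ∀ v ∈ VV p (pCore p G), t * v = v * t → ∀ a ∈ A, a * v = v * a := by
  have hQn : (pCore p G).Normal := Qn
  have hVn : (VV p (pCore p G)).Normal := VV_normal Qn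
  have hSQ : ¬ (S : Subgroup G) ≤ pCore p G := fun h1 => hAQ (hAS.trans h1)
  have hX := pmin c hSQ hN
  have hcore := core c hN
  have hAp : IsPGroup p A := S.isPGroup'.to_le hAS
  -- the module
  have hq : ∀ a ∈ A, ∀ v : W p G, a • (a • v - v) = a • v - v := by
    intro a ha v
    rw [Md.smul_eq_iff]
    have h1 := hquad v.val (VV_le_ZZ v.val_mem) a ha a ha
    have h2 : (a • v - v).val = ⁅a, v.val⁆ := by
      rw [Md.val_sub, Md.val_smul]; rfl
    rw [h2]
    exact commutatorElement_eq_one_iff_mul_comm.1 h1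
  have hEA : EA p (A.map (pp p G)) := by
    constructor
    · rintro _ ⟨a, ha, rfl⟩ _ ⟨b, hb', rfl⟩
      rw [← map_mul, ← map_mul, hAc a ha b hb']
    · rintro _ ⟨a, ha, rfl⟩
      apply pr_faithful
      intro v
      rw [← map_pow]
      show a ^ p • v = v
      have key : ∀ k : ℕ, a ^ k • v = v + k • (a • v - v) := by
        intro k
        induction k with
        | zero => rw [pow_zero, one_smul, zero_smul, add_zero]
        | succ k ih =>
          have h3 : a • (k • (a • v - v)) = k • (a • v - v) := by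
            rw [smul_comm, hq a ha]
          rw [pow_succ', mul_smul, ih, smul_add, h3, succ_nsmul]
          abel
      rw [key, W_pow, add_zero]
  have hne : A.map (pp p G) ≠ ⊥ := by
    intro h1
    apply hAQ
    rw [Subgroup.map_eq_bot_iff, ker_pp] at h1
    exact (le_inf hAS h1).trans (CS_inf c hN)
  have hoff : Nat.card (W p G) ≤ mm (W p G) (A.map (pp p G)) := by
    have h1 := off hAS hAc hAm (VV_comm (p := p) (Q := pCore p G)) (VV_le.trans QS)
    rw [← mm_map (p := p) A, mul_comm] at h1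
    exact Nat.le_of_mul_le_mul_right h1 Nat.card_pos
  obtain ⟨E, hAE, hEJ, hEE, x, hx, y, hy, z, hz, hyz, hxy, hzE, hzA⟩ :=
    Cfsg.Agent.H456.J7.FF.t7a_ff (by omega) hX hcore W_pow pr_faithful hEA hne hoff
  -- `N / Q` is a `p'`-group
  set N := centralizer (VV p (pCore p G) : Set G) with hNdef
  have hNn : N.Normal := inferInstance
  have hQN : pCore p G ≤ N := Q_le_cent
  have hSN : (S : Subgroup G) ⊓ N = pCore p G := le_antisymm (CS_inf c hN) (le_inf QS hQN)
  have hNp : ¬ p ∣ (pCore p G).relIndex N := by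
    rw [← hSN, inf_relIndex_right]
    exact fun h => S.not_dvd_index (h.trans (Cfsg.Agent.Lib.GoldschmidtFusion.relIndex_dvd_index_of_normal_right _ _))
  have hNA := hNA hNp
  -- the map `G / Q → G / N`
  let π : G ⧸ pCore p G →* Xg p G := QuotientGroup.lift (pCore p G) (pp p G) (by
    intro q hq'
    have : q ∈ (pp p G).ker := by rw [ker_pp]; exact hQN hq'
    exact this)
  have hπ : ∀ g : G, π (QuotientGroup.mk' (pCore p G) g) = pp p G g := fun g => rfl
  have hπs : Function.Surjective π := by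
    intro x
    obtain ⟨g, rfl⟩ := pr_surj x
    exact ⟨QuotientGroup.mk' (pCore p G) g, rfl⟩
  have hker : π.ker = N.map (QuotientGroup.mk' (pCore p G)) := by
    ext q
    obtain ⟨g, rfl⟩ := QuotientGroup.mk'_surjective (pCore p G) q
    rw [MonoidHom.mem_ker, hπ]
    constructor
    · intro h1
      refine ⟨g, ?_, rfl⟩
      have h2 : g ∈ (pp p G).ker := h1
      rwa [ker_pp] at h2
    · rintro ⟨n, hn, e⟩
      have h1 : n ∈ (pp p G).ker := by rw [ker_pp]; exact hn
      rw [← hπ, ← e, hπ]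
      exact h1
  have hK : ¬ p ∣ Nat.card π.ker := by
    rw [hker]
    have h1 := card_map_mul (QuotientGroup.mk' (pCore p G)) N
    rw [QuotientGroup.ker_mk', inf_eq_right.2 hQN] at h1
    have h2 : Nat.card (pCore p G) * (pCore p G).relIndex N = Nat.card N := by
      rw [← Subgroup.relIndex_bot_left, ← Subgroup.relIndex_bot_left]
      exact Subgroup.relIndex_mul_relIndex ⊥ _ _ bot_le hQN
    have h3 : Nat.card (N.map (QuotientGroup.mk' (pCore p G))) = (pCore p G).relIndex N := by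
      rw [← h2, mul_comm] at h1
      exact Nat.eq_of_mul_eq_mul_left Nat.card_pos h1
    rw [h3]; exact hNp
  have hmap : (A.map (QuotientGroup.mk' (pCore p G))).map π = A.map (pp p G) := by
    rw [Subgroup.map_map]
    rfl
  obtain ⟨t, ht1, ht2, ht3⟩ := Cfsg.Agent.H250.J7.t7b_lift π hπs hK
    (A := A.map (QuotientGroup.mk' (pCore p G))) (hAp.map _) (by
      rintro _ ⟨a, ha, rfl⟩ k hk
      rw [hker] at hk
      obtain ⟨n, hn, rfl⟩ := hk
      have h1 : ⁅n, a⁆ ∈ pCore p G := hNA (commutator_mem_commutator hn ha)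
      have h2 : QuotientGroup.mk' (pCore p G) ⁅n, a⁆ = 1 := (QuotientGroup.eq_one_iff _).2 h1
      rw [map_commutatorElement] at h2
      exact (commutatorElement_eq_one_iff_mul_comm.1 h2).symm) (E := E)
    (by rw [hmap]; exact hAE) (by rw [hmap]; exact hEJ) hEE hx hy hyz hxy hzE
  obtain ⟨t, rfl⟩ := QuotientGroup.mk'_surjective (pCore p G) t
  refine ⟨t, ?_, ?_, ?_⟩
  · rw [← map_mul] at ht1
    exact (QuotientGroup.eq_one_iff _).1 ht1
  · intro a ha
    have h1 := ht3 _ ⟨a, ha, rfl⟩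
    have h2 : QuotientGroup.mk' (pCore p G) ⁅t, a⁆ = 1 := by
      rw [map_commutatorElement]
      exact commutatorElement_eq_one_iff_mul_comm.2 h1
    exact (QuotientGroup.eq_one_iff _).1 h2
  · intro v hv htv a ha
    have h1 : z • (Md.mk (MonoidHom.id G) hInv hv : W p G) = Md.mk (MonoidHom.id G) hInv hv := by
      rw [← ht2, hπ]
      exact (Md.smul_eq_iff t (Md.mk (MonoidHom.id G) hInv hv)).2 htv
    have h2 := hzA _ h1 _ ⟨a, ha, rfl⟩
    exact (Md.smul_eq_iff a (Md.mk (MonoidHom.id G) hInv hv)).1 h2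

end Cfsg.Agent.H271.J7.ExistsT
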